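import Cfsg.Agent.Van.Basic
import Cfsg.Agent.Solv.FrobeniusComplement
import Cfsg.Agent.Solv.ClassNumber
import Cfsg.Agent.Solv.PGroupNormal
import Cfsg.Agent.Trans.LiftNormalizer
import Cfsg.Agent.S0017

/-! Solvable groups whose vanishing `p`-singular elements all have the same order. -/

namespace Cfsg.Lib.Van

open Cfsg Cfsg.Lib.Char Cfsg.Lib.Solv
open scoped commutatorElement

variable {G : Type*} [Group G] [Finite G] {p : ℕ} [hp : Fact p.Prime]

omit [Finite G] in
theorem dvd_orderOf_of_map {H : Type*} [Group H] (f : G →* H) {E : Subgroup H}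
    (hE : IsPGroup p E) {g : G} (hg : f g ∈ E) (h1 : f g ≠ 1) : p ∣ orderOf g := by
  obtain ⟨k, hk⟩ := exists_orderOf_eq_pow_of_mem hE hg
  refine Dvd.dvd.trans ?_ (orderOf_map_dvd f g)
  rw [hk]
  refine dvd_pow_self p ?_
  rintro rfl
  exact h1 (orderOf_eq_one_iff.1 (by simpa using hk))

/-- The abelian step: with `X = G / O_p(G)` and `H = X / O_{p'}(X)`, an abelian `p`-subgroup of `H`
all of whose nonidentity elements have only vanishing preimages has order dividing `p`. -/
theorem card_dvd_of_van {X H : Type*} [Group X] [Group H] [Finite X] [Finite H]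
    [Group.IsSolvable H] (f : G →* X) (hf : Function.Surjective f) (h : X →* H)
    (hh : Function.Surjective h) (hX : pCore p X = ⊥) (hk : (Nat.card h.ker).Coprime p)
    (hH : pPrimeCore p H = ⊥) {b : ℕ} (hb : ∀ g : G, IsVan g → p ∣ orderOf g → orderOf g = b)
    {E : Subgroup H} (hc : ∀ x ∈ E, ∀ y ∈ E, x * y = y * x) (hE : IsPGroup p E)
    (hW : ∀ g : G, h (f g) ∈ E → h (f g) ≠ 1 → IsVan g) : Nat.card E ∣ p := by
  have hπ : Function.Surjective (h.comp f) := hh.comp hf
  have hb' : ∀ g : G, h (f g) ∈ E → h (f g) ≠ 1 → orderOf g = b := fun g h1 h2 =>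
    hb g (hW g h1 h2) (dvd_orderOf_of_map (h.comp f) hE h1 h2)
  have hlift : ∀ t ∈ E, ∃ y : G, h (f y) = t ∧ ∃ j, orderOf y = p ^ j := fun t ht => by
    obtain ⟨k, hk⟩ := exists_orderOf_eq_pow_of_mem hE ht
    exact exists_lift_prime_pow (h.comp f) hπ hp.out hk
  have hexp : ∀ t ∈ E, t ^ p = 1 := by
    intro t ht
    by_contra h1
    have h2 : t ≠ 1 := by rintro rfl; exact h1 (one_pow p)
    obtain ⟨y, rfl, j, hj⟩ := hlift t ht
    have h3 := hb' y ht h2
    have h4 := hb' (y ^ p) (by rw [map_pow, map_pow]; exact pow_mem ht p)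
      (by rwa [map_pow, map_pow])
    have h5 : p ∣ orderOf y := dvd_orderOf_of_map (h.comp f) hE ht h2
    rw [orderOf_pow_of_dvd hp.out.ne_zero h5, ← h3] at h4
    exact (Nat.div_lt_self (orderOf_pos y) hp.out.one_lt).ne h4
  by_cases hE1 : E = ⊥
  · rw [hE1, Subgroup.card_bot]; exact one_dvd p
  obtain ⟨t, ht, ht1⟩ := (Subgroup.bot_or_exists_ne_one E).resolve_left hE1
  obtain ⟨j, hj⟩ : ∃ j, b = p ^ j := by
    obtain ⟨y, rfl, j, hj⟩ := hlift t ht
    exact ⟨j, (hb' y ht ht1).symm.trans hj⟩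
  obtain ⟨A, hA, hAE, -⟩ := Trans.exists_lift_normalizer h hh hE
  have hAk : A ⊓ h.ker = ⊥ := inf_eq_bot_of_isPGroup_of_coprime hA hk
  have hAc : IsMulCommutative A := ⟨⟨fun x y => Subtype.ext (by
    have h1 : ⁅(x : X), (y : X)⁆ ∈ A ⊓ h.ker := by
      refine Subgroup.mem_inf.2 ⟨?_, ?_⟩
      · rw [commutatorElement_def]
        exact A.mul_mem (A.mul_mem (A.mul_mem x.2 y.2) (A.inv_mem x.2)) (A.inv_mem y.2)
      · rw [MonoidHom.mem_ker, map_commutatorElement,
          commutatorElement_eq_one_iff_mul_comm]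
        exact hc _ (hAE ▸ ⟨x, x.2, rfl⟩) _ (hAE ▸ ⟨y, y.2, rfl⟩)
    rw [hAk, Subgroup.mem_bot, commutatorElement_eq_one_iff_mul_comm] at h1
    exact h1)⟩⟩
  have hker : h.ker ≠ ⊥ := by
    intro h0
    have h1 := map_pCore_of_ker (p := p) h hh (h0 ▸ IsPGroup.of_bot)
    rw [hX, Subgroup.map_bot] at h1
    have h2 := Cfsg.Agent.S0017.result p hH
    rw [← h1] at h2
    exact ht1 (h2 (fun x hx => by rw [(Subgroup.mem_bot.1 hx :)]; simp))
  have hAcyc : IsCyclic A := by
    refine Fpf.isCyclic_of_isMulCommutative (K := h.ker) (H := A) Subgroup.le_normalizer_of_normal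
      hker (fun a ha ha1 => ?_) le_rfl
    rw [eq_bot_iff]
    rintro k ⟨hk1, hk2⟩
    have hak : Commute a k := (Subgroup.mem_centralizer_singleton_iff.1 hk2).symm
    obtain ⟨g, hg⟩ := hf (a * k)
    have h1 : h (f g) = h a := by rw [hg, map_mul, (hk1 : h k = 1), mul_one]
    have h2 : h a ≠ 1 := fun h0 => ha1 (by
      have : a ∈ A ⊓ h.ker := ⟨ha, h0⟩
      rwa [hAk] at this)
    have h3 := hb' g (by rw [h1, ← hAE]; exact ⟨a, ha, rfl⟩) (h1 ▸ h2)
    obtain ⟨i, hi⟩ := exists_orderOf_eq_pow_of_mem hA ha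
    have h4 : (orderOf k).Coprime p := Nat.Coprime.coprime_dvd_left
      (Subgroup.orderOf_dvd_natCard _ hk1) hk
    have h5 : orderOf k ∣ orderOf (a * k) := by
      rw [hak.orderOf_mul_eq_mul_orderOf_of_coprime (hi ▸ (h4.pow_right i).symm)]
      exact dvd_mul_left _ _
    have h6 : orderOf k ∣ p ^ j := by
      rw [← hj, ← h3]
      exact h5.trans (hg ▸ orderOf_map_dvd f g)
    rw [Subgroup.mem_bot, ← orderOf_eq_one_iff]
    exact Nat.Coprime.eq_one_of_dvd (h4.pow_right j) h6
  have hEcyc : IsCyclic E := by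
    rw [← hAE]
    exact isCyclic_of_surjective (h.subgroupMap A) (h.subgroupMap_surjective A)
  obtain ⟨x, hx⟩ := hEcyc.exists_generator
  rw [← orderOf_eq_card_of_forall_mem_zpowers hx]
  exact orderOf_dvd_of_pow_eq_one (Subtype.ext (hexp x x.2))

theorem card_map_dvd_aux [Group.IsSolvable G] {X H : Type*} [Group X] [Group H] [Finite X]
    [Finite H] [Group.IsSolvable H] (f : G →* X) (hf : Function.Surjective f) (h : X →* H)
    (hh : Function.Surjective h) (hfk : f.ker = pCore p G) (hX : pCore p X = ⊥)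
    (hk : (Nat.card h.ker).Coprime p) (hH : pPrimeCore p H = ⊥) {b : ℕ}
    (hb : ∀ g : G, IsVan g → p ∣ orderOf g → orderOf g = b) {P : Subgroup G} (hP : IsPGroup p P) :
    Nat.card (P.map f) ∣ p := by
  have hE := fun {E : Subgroup H} => card_dvd_of_van (E := E) f hf h hh hX hk hH hb
  have hCT := Cfsg.Agent.S0017.result p hH
  have hTp : IsPGroup p (pCore p H) := pCore_isPGroup p _
  have hTn : (pCore p H).Normal := inferInstance
  generalize pCore p H = T at hCT hTp hTn
  set Z := T ⊓ Subgroup.centralizer (T : Set H) with hZ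
  have hZn : Z.Normal := inferInstance
  have hZc : ∀ x ∈ Z, ∀ y ∈ T, x * y = y * x := fun x hx y hy => (hx.2 y hy).symm
  have hWZ : ∀ g : G, h (f g) ∈ Z → h (f g) ≠ 1 → IsVan g := by
    intro g hg hg1
    obtain ⟨y, hy, hyg, hpr⟩ := exists_mem_zpowers_map_eq_of_primes (h.comp f) g
    obtain ⟨k, hk'⟩ := exists_orderOf_eq_pow_of_mem hTp hg.1
    have hyo : orderOf y = p ^ (orderOf y).primeFactorsList.length :=
      Nat.eq_prime_pow_of_unique_prime_dvd (orderOf_pos y).ne' fun {r} hr hry =>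
        (Nat.prime_dvd_prime_iff_eq hr hp.out).1 (hr.dvd_of_dvd_pow (hk' ▸ hpr r hr hry))
    refine van_of_comm (h.comp f).ker (fun x hx => ⟨Nat.card h.ker, hk, ?_⟩) hy hyo
      (fun h0 => hg1 ?_) (fun a c => ?_)
    · rw [← hfk, MonoidHom.mem_ker, map_pow]
      exact orderOf_dvd_iff_pow_eq_one.1 (Subgroup.orderOf_dvd_natCard h.ker hx)
    · have h1 : f y = 1 := by rwa [← hfk] at h0
      have h2 : h (f y) = h (f g) := hyg
      rw [← h2, h1, map_one]
    · rw [MonoidHom.mem_ker, map_commutatorElement, commutatorElement_eq_one_iff_mul_comm]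
      simp only [map_mul, map_inv, hyg]
      exact hZc _ (hZn.conj_mem _ hg _) _ (hZn.conj_mem _ hg _).1
  have hZp : Nat.card Z ∣ p := hE (fun x hx y hy => hZc x hx y hy.1) (hTp.to_le inf_le_left) hWZ
  have hTZ : T ≤ Z := by
    by_contra hTZ
    set m := QuotientGroup.mk' Z with hm
    have hTb : T.map m ≠ ⊥ := fun h0 => hTZ (by
      rwa [Subgroup.map_eq_bot_iff, QuotientGroup.ker_mk'] at h0)
    have : Nontrivial (T.map m) := (Subgroup.nontrivial_iff_ne_bot _).2 hTb
    have := (hTp.map m).center_nontrivial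
    obtain ⟨⟨⟨_, w, hw, rfl⟩, hwc⟩, hw1⟩ := exists_ne (1 : Subgroup.center (T.map m))
    have hwZ : w ∉ Z := fun h0 => hw1 (Subtype.ext (Subtype.ext
      ((QuotientGroup.eq_one_iff w).2 h0)))
    set Y := T ⊓ (Subgroup.centralizer (T.map m : Set _)).comap m with hY
    have hwY : w ∈ Y := ⟨hw, fun x hx =>
      congrArg Subtype.val (Subgroup.mem_center_iff.1 hwc ⟨x, hx⟩)⟩
    have hZY : Z ≤ Y := fun z hz => ⟨hz.1, fun x _ => by
      rw [(QuotientGroup.eq_one_iff z).2 hz |> fun h0 : m z = 1 => h0]; simp⟩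
    have hvan : ∀ e ∈ Y, e ∉ Z → IsVan e ∧ Nat.card Z = p := by
      intro e he heZ
      obtain ⟨s, hs, hse⟩ : ∃ s ∈ T, s * e ≠ e * s := by
        by_contra h0
        push Not at h0
        exact heZ ⟨he.1, h0⟩
      have hcZ : e⁻¹ * (s * e * s⁻¹) ∈ Z := by
        rw [← QuotientGroup.eq_one_iff, ← QuotientGroup.mk'_apply]
        have h1 : m s * m e = m e * m s := he.2 _ ⟨s, hs, rfl⟩
        simp only [map_mul, map_inv, ← hm, h1]
        group
      have hc1 : e⁻¹ * (s * e * s⁻¹) ≠ 1 := fun h0 => hse (by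
        rw [inv_mul_eq_one] at h0
        conv_rhs => rw [h0]
        group)
      set c := e⁻¹ * (s * e * s⁻¹) with hc
      have hZne : Z ≠ ⊥ := fun h0 => hc1 (by rwa [h0] at hcZ)
      have hcard : Nat.card Z = p := ((Nat.dvd_prime hp.out).1 hZp).resolve_left
        (fun h0 => hZne (Subgroup.eq_bot_of_card_eq _ h0))
      refine ⟨van_of_coset Z hZne fun z hz => ?_, hcard⟩
      have hgen : z ∈ Subgroup.zpowers c := by
        have := Fact.mk (hcard ▸ hp.out : (Nat.card Z).Prime)
        have h1 := mem_zpowers_of_prime_card (G := Z) rfl (g := ⟨c, hcZ⟩) (g' := ⟨z, hz⟩)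
          (fun h0 => hc1 (congrArg Subtype.val h0))
        obtain ⟨i, hi⟩ := h1
        exact ⟨i, congrArg Subtype.val hi⟩
      obtain ⟨i, rfl⟩ := (mem_powers_iff_mem_zpowers.2 hgen)
      have hcs : c * s = s * c := hZc c hcZ s hs
      have key : ∀ i : ℕ, s ^ i * e * (s ^ i)⁻¹ = e * c ^ i := by
        intro i
        induction i with
        | zero => simp
        | succ i ih =>
          have h1 : s * e * s⁻¹ = e * c := by rw [hc]; group
          have h2 : s * c ^ i * s⁻¹ = c ^ i := by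
            rw [← ((show Commute c s from hcs).pow_left i).eq, mul_inv_cancel_right]
          calc s ^ (i + 1) * e * (s ^ (i + 1))⁻¹ = s * (s ^ i * e * (s ^ i)⁻¹) * s⁻¹ := by group
            _ = (s * e * s⁻¹) * (s * c ^ i * s⁻¹) := by rw [ih]; group
            _ = e * c ^ (i + 1) := by rw [h1, h2]; group
      exact isConj_iff.2 ⟨s ^ i, key i⟩
    set E := Subgroup.closure (insert w (Z : Set _)) with hEdef
    have hEY : E ≤ Y := (Subgroup.closure_le _).2 (Set.insert_subset hwY hZY)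
    have hZE : Z ≤ E := fun z hz => Subgroup.subset_closure (Set.mem_insert_of_mem _ hz)
    have hEc : ∀ x ∈ E, ∀ y ∈ E, x * y = y * x := by
      have h1 : ∀ x ∈ insert w (Z : Set _), ∀ y ∈ insert w (Z : Set _), x * y = y * x := by
        rintro x (rfl | hx) y (rfl | hy)
        · rfl
        · exact (hZc y hy x hw).symm
        · exact hZc x hx y hw
        · exact hZc x hx y hy.1
      have := Subgroup.isMulCommutative_closure h1
      exact fun x hx y hy => congrArg Subtype.val (this.is_comm.comm ⟨x, hx⟩ ⟨y, hy⟩)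
    have h1 := hE hEc (hTp.to_le (hEY.trans inf_le_left)) (fun g hg hg1 => by
      by_cases h0 : h (f g) ∈ Z
      · exact hWZ g h0 hg1
      · exact IsVan.of_map (h.comp f) (hh.comp hf) (hvan _ (hEY hg) h0).1)
    have h2 : Z = E := Subgroup.eq_of_le_of_card_ge hZE
      ((hvan w hwY hwZ).2 ▸ Nat.le_of_dvd hp.out.pos h1)
    exact hwZ (h2 ▸ Subgroup.subset_closure (Set.mem_insert _ _))
  have hTc : Nat.card T ∣ p := (Subgroup.card_dvd_of_le hTZ).trans hZp
  have hS : IsPGroup p ((P.map f).map h) := (hP.map f).map h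
  have hST : (P.map f).map h ≤ T := by
    refine le_trans ?_ hCT
    rcases (Nat.dvd_prime hp.out).1 hTc with h1 | h1
    · rw [Subgroup.eq_bot_of_card_eq _ h1]
      intro x _ y hy
      rw [(Subgroup.mem_bot.1 hy :)]; simp
    · have hR : IsPGroup p ↥((P.map f).map h ⊔ T) := hS.to_sup_of_normal_right hTp
      have h2 := PG.le_center_of_card_eq_prime hR (T.subgroupOf _) (by
        rw [Nat.card_congr (Subgroup.subgroupOfEquivOfLe le_sup_right).toEquiv, h1])
      intro x hx y hy
      exact (congrArg Subtype.val (Subgroup.mem_center_iff.1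
        (h2 (show (⟨y, (le_sup_right : T ≤ _) hy⟩ : ↥((P.map f).map h ⊔ T)) ∈ T.subgroupOf _
          from hy)) ⟨x, (le_sup_left : _ ≤ _ ⊔ T) hx⟩)).symm
  have h3 := ClassNum.card_eq_card_map_mul h (P.map f)
  rw [inf_eq_bot_of_isPGroup_of_coprime (hP.map f) hk, Subgroup.card_bot, mul_one] at h3
  rw [h3]
  exact (Subgroup.card_dvd_of_le hST).trans hTc

/-- If all vanishing elements of order divisible by `p` of the solvable group `G` have the same
order, then a `p`-subgroup of `G` has image of order dividing `p` in `G / O_p(G)`. -/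
theorem card_map_dvd [Group.IsSolvable G] {b : ℕ}
    (hb : ∀ g : G, IsVan g → p ∣ orderOf g → orderOf g = b) {P : Subgroup G} (hP : IsPGroup p P) :
    Nat.card (P.map (QuotientGroup.mk' (pCore p G))) ∣ p :=
  card_map_dvd_aux (QuotientGroup.mk' (pCore p G)) (QuotientGroup.mk'_surjective _)
    (QuotientGroup.mk' (pPrimeCore p (G ⧸ pCore p G))) (QuotientGroup.mk'_surjective _)
    (QuotientGroup.ker_mk' _) (pCore_quotient_pCore p G)
    (by rw [QuotientGroup.ker_mk']; exact coprime_card_pPrimeCore p _)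
    (pPrimeCore_quotient_pPrimeCore p _) hb hP

end Cfsg.Lib.Van
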