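import Cfsg.Agent.Char.DegTwo
import Cfsg.Agent.Char.Clifford
import Cfsg.Agent.Char.Kernel
import Cfsg.Agent.Char.Linear
import Cfsg.Agent.Solv.MinNormal
import Cfsg.Agent.Solv.Fitting
import Cfsg.Agent.Solv.ElemLift

/-! Vanishing elements of solvable groups: a regular-orbit criterion. -/

namespace Cfsg.Lib.Van

open Cfsg Cfsg.Lib.Char Cfsg.Lib.Solv
open scoped commutatorElement

universe u

/-- `g` is a vanishing element. -/
def IsVan {G : Type*} [Group G] (g : G) : Prop := ∃ χ : G → ℂ, IsIrrCharacter G χ ∧ χ g = 0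

theorem IsVan.of_map {G H : Type*} [Group G] [Group H] (f : G →* H) (hf : Function.Surjective f)
    {g : G} (h : IsVan (f g)) : IsVan g := by
  obtain ⟨χ, hχ, h0⟩ := h
  exact ⟨fun x => χ (f x), hχ.comp_of_surjective f hf, h0⟩

/-- A commuting family of coprime operators on a finite abelian group has a point fixed only by
the operators that act trivially. -/
theorem exists_free {G B : Type*} [Group G] [Finite G] [CommGroup B] [MulDistribMulAction G B]
    {n : ℕ} (hn : n.Coprime (Nat.card B)) (S : Set G) (hpow : ∀ t ∈ S, ∀ ξ : B, t ^ n • ξ = ξ)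
    (hc : ∀ s ∈ S, ∀ t ∈ S, ∀ ξ : B, s • t • ξ = t • s • ξ) :
    ∃ w : B, ∀ t ∈ S, t • w = w → ∀ v : B, t • v = v := by
  classical
  obtain ⟨w, hw⟩ : ∃ w : B, ∀ w' : B,
      {t ∈ S | t • w = w}.ncard ≤ {t ∈ S | t • w' = w'}.ncard :=
    ⟨Function.argmin (fun w : B => {t ∈ S | t • w = w}.ncard),
      fun w' => Function.argmin_le (fun w : B => {t ∈ S | t • w = w}.ncard) w'⟩
  refine ⟨w, fun t ht htw μ => ?_⟩
  by_contra htμ
  have key : ∀ s ∈ S, s • (w * (t • μ / μ)) = w * (t • μ / μ) → s • w = w := by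
    intro s hsS hs
    have h4 : t • (μ / s • μ) / (μ / s • μ) = s • w / w := by
      rw [smul_mul', smul_div', hc s hsS t ht] at hs
      rw [smul_div', eq_div_iff_mul_eq'.2 hs]
      apply Additive.ofMul.injective
      simp only [ofMul_mul, ofMul_div]
      abel
    have h5 := Deg.smul_eq_of_smul_div hn (hpow t ht (μ / s • μ))
      (by rw [h4, smul_div', ← hc s hsS t ht, htw])
    rw [h5, div_self', eq_comm, div_eq_one] at h4
    exact h4
  have hlt : {s ∈ S | s • (w * (t • μ / μ)) = w * (t • μ / μ)} ⊂ {s ∈ S | s • w = w} := by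
    refine ⟨fun s hs => ⟨hs.1, key s hs.1 hs.2⟩, fun h => htμ ?_⟩
    have h1 := (h ⟨ht, htw⟩).2
    rw [smul_mul', htw, mul_right_inj] at h1
    exact Deg.smul_eq_of_smul_div hn (hpow t ht μ) h1
  exact (hw _).not_gt (Set.ncard_lt_ncard hlt (Set.toFinite _))

/-- If no conjugate of `g` fixes the linear character `lam` of the normal subgroup `N`, then `g`
is vanishing. -/
theorem van_of_notMem_inertia {G : Type*} [Group G] [Finite G] {N : Subgroup G} [N.Normal]
    {θ : N → ℂ} (hθ : IsIrrCharacter N θ) {g : G} (h : ∀ a : G, a⁻¹ * g * a ∉ inertia N θ) :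
    IsVan g := by
  classical
  let := Fintype.ofFinite G
  let := Fintype.ofFinite N
  obtain ⟨χ, hχ, h1⟩ := exists_irr_over hθ
  obtain ⟨ψ, -, h2, -⟩ := clifford_exists_indFun_eq (le_inertia hθ.isClassFunction) le_rfl hθ hχ h1
  refine ⟨χ, hχ, ?_⟩
  rw [← h2, indFun_apply, Finset.sum_eq_zero, mul_zero]
  intro a _
  exact extendByZero_of_notMem _ _ (h a)

theorem van_of_comm_aux (p : ℕ) [hp : Fact p.Prime] (n : ℕ) :
    ∀ (G : Type u) [Group G] [Finite G] [Group.IsSolvable G], Nat.card G = n →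
      ∀ (K : Subgroup G) [K.Normal], (∀ k ∈ K, ∃ m : ℕ, m.Coprime p ∧ k ^ m ∈ pCore p G) →
      ∀ (g y : G) (j : ℕ), y ∈ Subgroup.zpowers g → orderOf y = p ^ j → y ∉ pCore p G →
      (∀ a b : G, ⁅a * y * a⁻¹, b * y * b⁻¹⁆ ∈ K) → IsVan g := by
  induction n using Nat.strong_induction_on with
  | _ n ih =>
  intro G _ _ _ hn K _ hK g y j hyg hy hyP hcomm
  have hnt : Nontrivial G := by
    by_contra h
    rw [not_nontrivial_iff_subsingleton] at h
    exact hyP (by rw [Subsingleton.elim y 1]; exact one_mem _)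
  obtain ⟨q, N, hq, hN, hNc, hNe, hNq⟩ := exists_isMinNormal_elementary G
  have : N.Normal := hN.normal
  set f := QuotientGroup.mk' N with hf
  have hfs : Function.Surjective f := QuotientGroup.mk'_surjective N
  by_cases hyN : f y ∈ pCore p (G ⧸ N)
  swap
  · obtain ⟨i, -, hi⟩ := (Nat.dvd_prime_pow hp.out).1 (hy ▸ orderOf_map_dvd f y)
    have : (K.map f).Normal := Subgroup.Normal.map inferInstance f hfs
    refine IsVan.of_map f hfs (ih _ (hn ▸ card_quotient_lt_of_ne_bot N hN.ne_bot) (G ⧸ N) rfl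
      (K.map f) ?_ (f g) (f y) i ?_ hi hyN ?_)
    · rintro _ ⟨k, hk, rfl⟩
      obtain ⟨m, hm, hkm⟩ := hK k hk
      exact ⟨m, hm, map_pCore_le f hfs ⟨k ^ m, hkm, map_pow f k m⟩⟩
    · obtain ⟨z, rfl⟩ := hyg
      exact ⟨z, (map_zpow f g z).symm⟩
    · intro a b
      obtain ⟨a, rfl⟩ := hfs a
      obtain ⟨b, rfl⟩ := hfs b
      exact ⟨_, hcomm a b, by simp only [map_commutatorElement, map_mul, map_inv]⟩
  have hqp : q ≠ p := by
    rintro rfl
    refine hyP ?_
    rw [← comap_pCore_quotient N hNq]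
    exact hyN
  have := Fact.mk hq
  have hNcomm : ∀ a ∈ N, ∀ b ∈ N, a * b = b * a := fun a ha b hb =>
    congrArg Subtype.val (hNc.is_comm.comm ⟨a, ha⟩ ⟨b, hb⟩)
  set L := (pCore p (G ⧸ N)).comap f with hL
  have : L.Normal := Subgroup.Normal.comap inferInstance f
  -- no conjugate of `y` centralises `N`
  have hnc : ∀ a : G, ¬ ∀ x ∈ N, (a * y * a⁻¹) * x = x * (a * y * a⁻¹) := by
    intro a ha
    have h1 : y ∈ Subgroup.centralizer (N : Set G) := by
      have h2 : a * y * a⁻¹ ∈ Subgroup.centralizer (N : Set G) := fun x hx => (ha x hx).symm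
      have h3 := (inferInstance : (Subgroup.centralizer (N : Set G)).Normal).conj_mem _ h2 a⁻¹
      simpa [mul_assoc] using h3
    have h2 : Group.IsNilpotent ↥(L ⊓ Subgroup.centralizer (N : Set G)) := by
      refine isNilpotent_of_map_mk'_of_le_centralizer (A := N) inf_le_right ?_
      refine isNilpotent_of_le (K := pCore p (G ⧸ N)) ?_ (pCore_isPGroup p _).isNilpotent
      rintro _ ⟨x, hx, rfl⟩
      exact hx.1
    exact hyP (mem_pCore_of_mem_fitting (le_fitting inferInstance h2 ⟨hyN, h1⟩) hy)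
  -- commutators centralise `N`
  have hcc : ∀ a b : G, ⁅a * y * a⁻¹, b * y * b⁻¹⁆ ∈ Subgroup.centralizer (N : Set G) := by
    intro a b
    set c := ⁅a * y * a⁻¹, b * y * b⁻¹⁆ with hc
    obtain ⟨m, hm, hcm⟩ := hK c (hcomm a b)
    have hcL : c ∈ L := by
      have h1 := (inferInstance : L.Normal).conj_mem y hyN a
      have h2 := (inferInstance : L.Normal).conj_mem y hyN b
      rw [hc, commutatorElement_def]
      exact L.mul_mem (L.mul_mem (L.mul_mem h1 h2) (L.inv_mem h1)) (L.inv_mem h2)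
    obtain ⟨k, hk⟩ := pCore_isPGroup p (G ⧸ N) ⟨f c, hcL⟩
    have hk' : c ^ p ^ k ∈ N := by
      rw [← QuotientGroup.eq_one_iff, ← QuotientGroup.mk'_apply, map_pow]
      exact congrArg Subtype.val hk
    have h1 : c ^ m ∈ Subgroup.centralizer (N : Set G) :=
      Subgroup.centralizer_le (le_pCore inferInstance hNq)
        (pCore_le_centralizer_pCore_of_ne hqp.symm hcm)
    have h2 : c ^ p ^ k ∈ Subgroup.centralizer (N : Set G) := fun x hx => hNcomm x hx _ hk'
    obtain ⟨u, v, huv⟩ := Nat.isCoprime_iff_coprime.2 (hm.pow_right k)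
    have h3 : c = (c ^ m) ^ u * (c ^ p ^ k) ^ v := by
      rw [← zpow_natCast, ← zpow_natCast, ← zpow_mul, ← zpow_mul, ← zpow_add, mul_comm _ u,
        mul_comm _ v, huv, zpow_one]
    rw [h3]
    exact mul_mem (zpow_mem h1 u) (zpow_mem h2 v)
  let := Deg.dualAct N
  have hcard : (p ^ j).Coprime (Nat.card (N →* ℂˣ)) := by
    rw [card_monoidHom_units_of_comm (fun a b => hNc.is_comm.comm a b)]
    obtain ⟨k, hk⟩ := IsPGroup.iff_card.1 hNq
    rw [hk]
    exact Nat.Coprime.pow _ _ ((Nat.coprime_primes hp.out hq).2 hqp.symm)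
  have htriv : ∀ c ∈ Subgroup.centralizer (N : Set G), ∀ ξ : N →* ℂˣ, c • ξ = ξ := by
    intro c hc ξ
    refine MonoidHom.ext fun x => congrArg ξ (Subtype.ext ?_)
    have := hc x x.2
    simp only [MulEquiv.coe_toMonoidHom, MulAut.conjNormal_apply, inv_inv]
    rw [mul_assoc, this, inv_mul_cancel_left]
  obtain ⟨lam, hlam⟩ := exists_free hcard {t | ∃ a : G, t = a * y * a⁻¹} (by
      rintro _ ⟨a, rfl⟩ ξ
      rw [conj_pow, ← hy, pow_orderOf_eq_one, mul_one, mul_inv_cancel, one_smul]) (by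
      rintro _ ⟨a, rfl⟩ _ ⟨b, rfl⟩ ξ
      have h1 := htriv _ (hcc a b) ((b * y * b⁻¹) • (a * y * a⁻¹) • ξ)
      rw [← h1, ← mul_smul, ← mul_smul, ← mul_smul, commutatorElement_def]
      congr 1
      group)
  refine van_of_notMem_inertia (isIrrCharacter_monoidHom lam) fun a ha => hnc a⁻¹ ?_
  have h1 : a⁻¹ * y * a⁻¹⁻¹ ∈ inertia N fun x => (lam x : ℂ) := by
    obtain ⟨z, rfl⟩ := hyg
    have := zpow_mem ha z
    rw [inv_inv]
    convert this using 1
    have h := map_zpow (MulAut.conj a⁻¹) g z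
    simpa using h
  rw [← Deg.stabilizer_dualAct] at h1
  refine Deg.mem_centralizer_of_forall_mem_inertia hNcomm fun μ => ?_
  rw [← Deg.stabilizer_dualAct]
  exact hlam _ ⟨a⁻¹, rfl⟩ h1 μ

/-- In a solvable group, let `y ∈ ⟨g⟩` be a `p`-element outside `O_p(G)` whose conjugates commute
modulo a normal subgroup `K` that is a `p'`-group modulo `O_p(G)`. Then `g` is vanishing. -/
theorem van_of_comm {G : Type*} [Group G] [Finite G] [Group.IsSolvable G] {p : ℕ} [Fact p.Prime]
    (K : Subgroup G) [K.Normal] (hK : ∀ k ∈ K, ∃ m : ℕ, m.Coprime p ∧ k ^ m ∈ pCore p G)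
    {g y : G} {j : ℕ} (hyg : y ∈ Subgroup.zpowers g) (hy : orderOf y = p ^ j)
    (hyP : y ∉ pCore p G) (hcomm : ∀ a b : G, ⁅a * y * a⁻¹, b * y * b⁻¹⁆ ∈ K) : IsVan g :=
  van_of_comm_aux p _ G rfl K hK g y j hyg hy hyP hcomm

/-- If `Z` is a nontrivial normal subgroup and `w` is conjugate to every element of `wZ`, then `w`
is vanishing. -/
theorem van_of_coset {G : Type*} [Group G] [Finite G] (Z : Subgroup G) [Z.Normal] (hZ : Z ≠ ⊥)
    {w : G} (h : ∀ z ∈ Z, IsConj w (w * z)) : IsVan w := by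
  classical
  let := Fintype.ofFinite Z
  obtain ⟨z, hz, hz1⟩ := (Subgroup.bot_or_exists_ne_one Z).resolve_left hZ
  obtain ⟨χ, hχ, hne⟩ := exists_irr_apply_ne hz1
  have h1 := hχ.sum_coset_eq_zero Z (fun hle => hne (apply_of_mem_charKer (hle hz))) w
  refine ⟨χ, hχ, ?_⟩
  have h2 : ∀ n : Z, χ (w * n) = χ w := by
    intro n
    obtain ⟨c, hc⟩ := isConj_iff.1 (h n n.2)
    rw [← hc]
    exact hχ.isClassFunction _ _
  simp only [h2, Finset.sum_const, Finset.card_univ, nsmul_eq_mul, mul_eq_zero,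
    Nat.cast_eq_zero, Fintype.card_ne_zero, false_or] at h1
  exact h1

end Cfsg.Lib.Van
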